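import Cfsg.Agent.H171.RM.Count
import Cfsg.Agent.H555.RV.Crit
import Cfsg.Agent.H555.Hall.NonAb

/-!
# Tools for `¬ D_{s,t}` of sporadic groups (helper555; S3849, piece P11)

* `gl_dvd` : `|T : C_T(Q)|` divides `(s - 1) (s ^ 2 - 1) ... (s ^ n - 1)` for a `t`-group `T` acting on an `s`-group `Q`;
* `inv1_bound`, `inv1_small` : `Inv1 s t S` from the orders of the centralizers of the elements of order `t`;
* `exists_Q` : `Q = O_s(K)` for a Hall `{s,t}`-subgroup `K` of a group with `Inv1 s t S`;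
* `no_of_gl` : `t ^ b` does not divide `(s - 1) ... (s ^ a - 1)`: no Hall `{s,t}`-subgroup;
* `no_of_nonab` : `|S|_t = t`, the Sylow `s`-subgroups not abelian, `s ^ a` does not divide `|N(⟨x⟩)|`: no Hall `{s,t}`-subgroup.
-/

set_option autoImplicit false

namespace Cfsg.Agent.H555.RM

open Subgroup Cfsg Cfsg.Agent.H571.DExt Cfsg.Agent.H988.CPi Cfsg.Agent.H171.Odd Cfsg.Agent.H555.RV
open scoped Pointwise

universe u

variable {S : Type u} [Group S]

/-! ### a `t`-group acting on an `s`-group -/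

theorem exists_val {t n : ℕ} (ht : t.Prime) (hn : n ≠ 0) : ∃ v, t ^ v ∣ n ∧ ¬ t ^ (v + 1) ∣ n :=
  ⟨n.factorization t, Nat.ordProj_dvd n t, Nat.pow_succ_factorization_not_dvd hn ht⟩

theorem gl_dvd [Finite S] {s t : ℕ} (hs : s.Prime) (ht : t.Prime) (hst : t ≠ s) {Q : Subgroup S} {j : ℕ}
    (hQ : Nat.card Q = s ^ j) : ∀ (n : ℕ) (T : Subgroup S) (i : ℕ), IsPGroup t T → T ≤ normalizer (Q : Set S) →
      Nat.card (Q ⊓ centralizer (T : Set S) : Subgroup S) = s ^ i → j ≤ i + n →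
      (centralizer (Q : Set S)).relIndex T ∣ ∏ k ∈ Finset.range n, (s ^ (k + 1) - 1) := by
  have hfs : Fact s.Prime := ⟨hs⟩
  have hft : Fact t.Prime := ⟨ht⟩
  intro n
  induction n with
  | zero =>
    intro T i hT hn hi hj
    have h1 : (Q ⊓ centralizer (T : Set S) : Subgroup S) = Q := by
      refine eq_of_le_of_card_ge inf_le_left ?_
      rw [hi, hQ]
      exact Nat.pow_le_pow_right hs.pos (by omega)
    have h2 : T ≤ centralizer (Q : Set S) := by
      intro x hx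
      rw [mem_centralizer_iff]
      intro y hy
      have h3 : y ∈ (Q ⊓ centralizer (T : Set S) : Subgroup S) := by rw [h1]; exact hy
      exact (mem_centralizer_iff.1 h3.2 x hx).symm
    rw [relIndex_eq_one.2 h2]
    exact one_dvd _
  | succ n ih =>
    intro T i hT hn hi hj
    rcases Nat.lt_or_ge (i + n) j with hlt | hge
    swap
    · rw [Finset.prod_range_succ]
      exact (ih T i hT hn hi hge).mul_right _
    set R : Subgroup S := Q ⊓ centralizer (T : Set S) with hR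
    have hTR : T ≤ normalizer (R : Set S) := by
      intro x hx
      apply mem_normalizer_fintype
      rintro y ⟨hy, hyc⟩
      have h1 : x * y * x⁻¹ = y := by
        rw [mem_centralizer_iff.1 hyc x hx, mul_inv_cancel_right]
      rw [h1]
      exact ⟨hy, hyc⟩
    have hne : s ^ (n + 1) - 1 ≠ 0 := by
      have := Nat.one_lt_pow (n := n + 1) (by omega) hs.one_lt
      omega
    obtain ⟨y, hy, hyR, hd⟩ : ∃ y ∈ Q, y ∉ R ∧ (centralizer ({y} : Set S)).relIndex T ∣ s ^ (n + 1) - 1 := by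
      by_contra hcon
      push Not at hcon
      obtain ⟨v, hv, hv'⟩ := exists_val ht hne
      have h1 : t ^ (v + 1) ∣ Nat.card Q - Nat.card R := by
        refine dvd_sub (P := T) hn hTR inf_le_left fun y hy hyR => ?_
        have h2 := hcon y hy hyR
        have h3 : (centralizer ({y} : Set S)).relIndex T ∣ Nat.card T := by
          have := card_inf_mul (centralizer ({y} : Set S)) T
          exact ⟨_, by rw [← this, mul_comm]⟩
        obtain ⟨l, hl⟩ := hT.exists_card_eq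
        rw [hl] at h3
        obtain ⟨c, -, hc⟩ := (Nat.dvd_prime_pow ht).1 h3
        rw [hc] at h2 ⊢
        refine pow_dvd_pow t ?_
        by_contra hlt'
        exact h2 ((pow_dvd_pow t (by omega)).trans hv)
      rw [hQ, hi] at h1
      have h2 : s ^ j - s ^ i = s ^ i * (s ^ (n + 1) - 1) := by
        rw [Nat.mul_sub, ← pow_add, mul_one]
        congr 2
        omega
      rw [h2] at h1
      exact hv' ((Nat.Coprime.pow _ _ ((Nat.coprime_primes ht hs).2 hst)).dvd_of_dvd_mul_left h1)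
    set T1 : Subgroup S := centralizer ({y} : Set S) ⊓ T with hT1
    have hT1T : T1 ≤ T := inf_le_right
    have hRle : R ≤ Q ⊓ centralizer (T1 : Set S) :=
      inf_le_inf_left Q (centralizer_le hT1T)
    have hy1 : y ∈ (Q ⊓ centralizer (T1 : Set S) : Subgroup S) := by
      refine ⟨hy, mem_centralizer_iff.2 ?_⟩
      intro x hx
      exact mem_centralizer_singleton_iff.1 hx.1
    have hp1 : IsPGroup s (Q ⊓ centralizer (T1 : Set S) : Subgroup S) :=
      (IsPGroup.of_card hQ).to_le inf_le_left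
    obtain ⟨i1, hi1⟩ := hp1.exists_card_eq
    have hlt1 : i < i1 := by
      have h1 : Nat.card R < Nat.card (Q ⊓ centralizer (T1 : Set S) : Subgroup S) := by
        rcases Nat.lt_or_ge (Nat.card R) (Nat.card (Q ⊓ centralizer (T1 : Set S) : Subgroup S)) with h | h
        · exact h
        · exact absurd (eq_of_le_of_card_ge hRle h ▸ hy1) hyR
      rw [hi, hi1] at h1
      exact (Nat.pow_lt_pow_iff_right hs.one_lt).1 h1
    have h1 := ih T1 i1 (hT.to_le hT1T) (hT1T.trans hn) hi1 (by omega)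
    have hCT : (centralizer (Q : Set S) ⊓ T : Subgroup S) ≤ T1 := by
      refine le_inf (fun x hx => ?_) inf_le_right
      rw [mem_centralizer_singleton_iff]
      exact (mem_centralizer_iff.1 hx.1 y hy).symm
    have h2 := relIndex_mul_relIndex (centralizer (Q : Set S) ⊓ T) T1 T hCT hT1T
    rw [inf_relIndex_right, hT1, inf_relIndex_right, ← hT1] at h2
    have h3 : (centralizer (Q : Set S) ⊓ T).relIndex T1 = (centralizer (Q : Set S)).relIndex T1 := by
      have h4 : (centralizer (Q : Set S) ⊓ T : Subgroup S) = centralizer (Q : Set S) ⊓ T1 :=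
        le_antisymm (le_inf inf_le_left hCT) (inf_le_inf_left _ hT1T)
      rw [h4, inf_relIndex_right]
    rw [h3] at h2
    rw [← h2, Finset.prod_range_succ]
    exact mul_dvd_mul h1 hd

/-- a Sylow `s`-subgroup `T` acting on a `t`-group `R` -/
theorem inv1_bound [Finite S] {s t a c r : ℕ} (hs : s.Prime) (ht : t.Prime) (hst : t ≠ s)
    (hc : ∀ x : S, orderOf x = t → ¬ s ^ (c + 1) ∣ Nat.card (centralizer ({x} : Set S)))
    {T R : Subgroup S} (hT : IsPGroup s T) (hTa : s ^ a ∣ Nat.card T) (hR : Nat.card R = t ^ r) (hr : r ≠ 0)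
    (hn : T ≤ normalizer (R : Set S)) : s ^ (a - c) ∣ ∏ k ∈ Finset.range r, (t ^ (k + 1) - 1) := by
  have hfs : Fact s.Prime := ⟨hs⟩
  have hft : Fact t.Prime := ⟨ht⟩
  have hRp : IsPGroup t R := IsPGroup.of_card hR
  obtain ⟨i, hi⟩ := (hRp.to_le (inf_le_left : (R ⊓ centralizer (T : Set S) : Subgroup S) ≤ R)).exists_card_eq
  have h1 := gl_dvd ht hs (Ne.symm hst) hR r T i hT hn hi (by omega)
  refine Dvd.dvd.trans ?_ h1
  obtain ⟨x, hx⟩ := exists_prime_orderOf_dvd_card' (G := R) t (hR ▸ dvd_pow_self t hr)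
  have h2 := card_inf_mul (centralizer (R : Set S)) T
  have h3 : IsPGroup s (centralizer (R : Set S) ⊓ T : Subgroup S) := hT.to_le inf_le_right
  obtain ⟨e, he⟩ := h3.exists_card_eq
  have h4 : e ≤ c := by
    by_contra hlt
    apply hc (x : S) (by rw [Subgroup.orderOf_coe]; exact hx)
    have h5 : (centralizer (R : Set S) ⊓ T : Subgroup S) ≤ centralizer ({(x : S)} : Set S) := by
      intro y hy
      rw [mem_centralizer_singleton_iff]
      exact (mem_centralizer_iff.1 hy.1 (x : S) x.2).symm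
    have h6 := card_dvd_of_le h5
    rw [he] at h6
    exact (pow_dvd_pow s (by omega)).trans h6
  rw [he] at h2
  rw [← h2] at hTa
  rcases Nat.lt_or_ge a c with h5 | h5
  · rw [Nat.sub_eq_zero_of_le h5.le, pow_zero]; exact one_dvd _
  have h6 : s ^ e * s ^ (a - c) ∣ s ^ e * (centralizer (R : Set S)).relIndex T := by
    refine Dvd.dvd.trans ?_ hTa
    rw [← pow_add]
    exact pow_dvd_pow s (by omega)
  exact Nat.dvd_of_mul_dvd_mul_left (pow_pos hs.pos e) h6

/-- **`Inv1 s t`** from the orders of the centralizers of the elements of order `t` -/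
theorem inv1_small [Finite S] {s t a b c : ℕ} (hs : s.Prime) (ht : t.Prime) (hst : t ≠ s) (ha : s ^ a ∣ Nat.card S)
    (hb : ¬ t ^ (b + 1) ∣ Nat.card S)
    (hc : ∀ x : S, orderOf x = t → ¬ s ^ (c + 1) ∣ Nat.card (centralizer ({x} : Set S)))
    (hN : ¬ s ^ (a - c) ∣ ∏ k ∈ Finset.range b, (t ^ (k + 1) - 1)) : Inv1 s t S := by
  have hfs : Fact s.Prime := ⟨hs⟩
  have hft : Fact t.Prime := ⟨ht⟩
  intro T hT hTi R hR hn
  by_contra hne
  obtain ⟨r, hr⟩ := hR.exists_card_eq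
  have hr0 : r ≠ 0 := by
    rintro rfl
    rw [pow_zero] at hr
    exact hne (card_eq_one.1 hr)
  have hTa : s ^ a ∣ Nat.card T := by
    have h1 := T.card_mul_index
    rw [← h1] at ha
    exact (Nat.Coprime.pow_left a ((Nat.Prime.coprime_iff_not_dvd hs).2 hTi)).dvd_of_dvd_mul_right ha
  have hrb : r ≤ b := by
    by_contra hlt
    apply hb
    have h1 := card_subgroup_dvd_card R
    rw [hr] at h1
    exact (pow_dvd_pow t (by omega)).trans h1
  apply hN
  refine (inv1_bound hs ht hst hc hT hTa hr hr0 hn).trans ?_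
  obtain ⟨d, rfl⟩ := Nat.exists_eq_add_of_le hrb
  rw [Finset.prod_range_add]
  exact dvd_mul_right _ _

/-! ### Hall subgroups -/

/-- **`O_s(K)`** -/
theorem exists_Q [Finite S] {s t a b m : ℕ} (hs : s.Prime) (ht : t.Prime) (hst : t ≠ s)
    (hS : Nat.card S = s ^ a * t ^ b * m) (h2 : ¬ s ∣ m) (hm : ¬ t ∣ m) (hI : Inv1 s t S) {K : Subgroup S}
    (hK : IsPiHall ({s, t} : Set ℕ) K) : Nat.card K = s ^ a * t ^ b ∧ ∃ Q : Subgroup S, Q ≤ K ∧ IsPGroup s Q ∧
      K ≤ normalizer (Q : Set S) ∧ K ⊓ centralizer (Q : Set S) ≤ Q := by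
  have hcK := H171.RM.card_of_hall hs ht hst hS h2 hm hK
  have hft : Fact t.Prime := ⟨ht⟩
  have hfs : Fact s.Prime := ⟨hs⟩
  have hsol : Group.IsSolvable K := S0144.result s t a b hs ht hcK
  -- `O_t(K) = 1`
  have hOp : pCore t K = ⊥ := by
    obtain ⟨T⟩ : Nonempty (Sylow s K) := inferInstance
    have h3 := hI ((T : Subgroup K).map K.subtype) (T.isPGroup'.map _)
      (not_dvd_index_map (by simp) hK T) ((pCore t K).map K.subtype)
      ((Lib.Cores.pCore_isPGroup t).map _) (by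
        rintro x ⟨y, -, rfl⟩
        apply mem_normalizer_fintype
        rintro _ ⟨z, hz, rfl⟩
        exact ⟨y * z * y⁻¹, (Lib.Cores.pCore_normal t).conj_mem z hz y, by simp⟩)
    rwa [map_eq_bot_iff_of_injective _ (subtype_injective _)] at h3
  have hO2 : pPrimeCore s K = ⊥ := by
    have h3 := Lib.Cores.pPrimeCore_coprime (G := K) s
    have h4 : Nat.card (pPrimeCore s K) ∣ t ^ b := by
      have h5 : Nat.card (pPrimeCore s K) ∣ s ^ a * t ^ b := by rw [← hcK]; exact card_subgroup_dvd_card _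
      exact (Nat.Coprime.pow_right a h3).dvd_of_dvd_mul_left h5
    have h5 : IsPGroup t (pPrimeCore s K) := by
      obtain ⟨k, -, hk⟩ := (Nat.dvd_prime_pow ht).1 h4
      exact IsPGroup.of_card hk
    have h6 := Lib.Cores.le_pCore (Lib.Cores.pPrimeCore_normal s) h5
    rw [hOp] at h6
    exact le_bot_iff.1 h6
  have hC := Lib.HallHigman.centralizer_pCore_le_of_solvable (G := K) s hO2
  refine ⟨hcK, (pCore s K).map K.subtype, map_subtype_le _, (Lib.Cores.pCore_isPGroup s).map _, ?_, ?_⟩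
  · intro x hx
    apply mem_normalizer_fintype
    rintro _ ⟨z, hz, rfl⟩
    exact ⟨⟨x, hx⟩ * z * ⟨x, hx⟩⁻¹, (Lib.Cores.pCore_normal s).conj_mem z hz _, by simp⟩
  · rintro x ⟨hx, hxc⟩
    refine ⟨⟨x, hx⟩, hC ?_, rfl⟩
    show (⟨x, hx⟩ : K) ∈ centralizer (pCore s K : Set K)
    rw [mem_centralizer_iff]
    intro y hy
    exact Subtype.ext (mem_centralizer_iff.1 hxc (y : S) ⟨y, hy, rfl⟩)

theorem exists_Q_card [Finite S] {s t a b : ℕ} (hs : s.Prime) (ht : t.Prime) (hst : t ≠ s) {K Q : Subgroup S}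
    (hcK : Nat.card K = s ^ a * t ^ b) (hQK : Q ≤ K) (hQ : IsPGroup s Q) : ∃ j, j ≤ a ∧ Nat.card Q = s ^ j := by
  have hfs : Fact s.Prime := ⟨hs⟩
  obtain ⟨j, hj⟩ := hQ.exists_card_eq
  refine ⟨j, ?_, hj⟩
  have h2 : s ^ j ∣ s ^ a * t ^ b := by rw [← hcK, ← hj]; exact card_dvd_of_le hQK
  have h3 : s ^ j ∣ s ^ a :=
    Nat.Coprime.dvd_of_dvd_mul_right (Nat.Coprime.pow _ _ ((Nat.coprime_primes hs ht).2 (Ne.symm hst))) h2
  exact (Nat.pow_dvd_pow_iff_le_right hs.one_lt).1 h3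

/-- a Sylow `t`-subgroup of `K`, in `S` -/
theorem exists_P [Finite S] {s t a b : ℕ} (hs : s.Prime) (ht : t.Prime) (hst : t ≠ s) {K : Subgroup S}
    (hcK : Nat.card K = s ^ a * t ^ b) : ∃ P : Subgroup S, P ≤ K ∧ Nat.card P = t ^ b := by
  have hft : Fact t.Prime := ⟨ht⟩
  obtain ⟨P, hP⟩ := Sylow.exists_subgroup_card_pow_prime (G := K) t (n := b) (by rw [hcK]; exact dvd_mul_left _ _)
  exact ⟨P.map K.subtype, map_subtype_le P, by rw [card_map_of_injective (subtype_injective K), hP]⟩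

/-- **GL** -/
theorem no_of_gl [Finite S] {s t a b m : ℕ} (hs : s.Prime) (ht : t.Prime) (hst : t ≠ s)
    (hS : Nat.card S = s ^ a * t ^ b * m) (h2 : ¬ s ∣ m) (hm : ¬ t ∣ m) (hI : Inv1 s t S)
    (hN : ¬ t ^ b ∣ ∏ k ∈ Finset.range a, (s ^ (k + 1) - 1)) (K : Subgroup S) : ¬ IsPiHall ({s, t} : Set ℕ) K := by
  intro hK
  have hfs : Fact s.Prime := ⟨hs⟩
  have hft : Fact t.Prime := ⟨ht⟩
  obtain ⟨hcK, Q, hQK, hQ, hKn, hKc⟩ := exists_Q hs ht hst hS h2 hm hI hK
  obtain ⟨P, hPK, hP⟩ := exists_P hs ht hst hcK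
  obtain ⟨j, hja, hj⟩ := exists_Q_card hs ht hst hcK hQK hQ
  have hPp : IsPGroup t P := IsPGroup.of_card hP
  obtain ⟨i, hi⟩ := (hQ.to_le (inf_le_left : (Q ⊓ centralizer (P : Set S) : Subgroup S) ≤ Q)).exists_card_eq
  have h1 := gl_dvd hs ht hst hj a P i hPp (hPK.trans hKn) hi (by omega)
  have h3 := card_inf_mul (centralizer (Q : Set S)) P
  have h4 : (centralizer (Q : Set S) ⊓ P : Subgroup S) = ⊥ := by
    have h5 : (centralizer (Q : Set S) ⊓ P : Subgroup S) ≤ Q := fun x hx => hKc ⟨hPK hx.2, hx.1⟩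
    rw [eq_bot_iff]
    intro x hx
    obtain ⟨k, hk⟩ := hQ ⟨x, h5 hx⟩
    obtain ⟨l, hl⟩ := hPp ⟨x, hx.2⟩
    have hk : x ^ s ^ k = 1 := congrArg Subtype.val hk
    have hl : x ^ t ^ l = 1 := congrArg Subtype.val hl
    have h7 : orderOf x ∣ 1 := by
      have h8 : Nat.Coprime (s ^ k) (t ^ l) := Nat.Coprime.pow _ _ ((Nat.coprime_primes hs ht).2 (Ne.symm hst))
      have h9 := Nat.dvd_gcd (orderOf_dvd_of_pow_eq_one hk) (orderOf_dvd_of_pow_eq_one hl)
      rwa [h8] at h9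
    rwa [Nat.dvd_one, orderOf_eq_one_iff] at h7
  rw [h4, card_bot, one_mul, hP] at h3
  rw [h3] at h1
  exact hN h1

theorem nd_of_gl [Finite S] {s t a b m : ℕ} (hs : s.Prime) (ht : t.Prime) (hst : t ≠ s)
    (hS : Nat.card S = s ^ a * t ^ b * m) (h2 : ¬ s ∣ m) (hm : ¬ t ∣ m) (hI : Inv1 s t S)
    (hN : ¬ t ^ b ∣ ∏ k ∈ Finset.range a, (s ^ (k + 1) - 1)) : ¬ Dom ({s, t} : Set ℕ) S := by
  rintro ⟨K, hK, -⟩
  exact no_of_gl hs ht hst hS h2 hm hI hN K hK

/-- all the subgroups of order `s ^ a` are nonabelian if one is -/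
theorem nonab_of [Finite S] {s a n : ℕ} (hs : s.Prime) (hS : Nat.card S = s ^ a * n) (hn : ¬ s ∣ n) {H : Subgroup S}
    (hH : Nat.card H = s ^ a) {x y : S} (hx : x ∈ H) (hy : y ∈ H) (hxy : x * y ≠ y * x) (P : Subgroup S)
    (hP : Nat.card P = s ^ a) : ∃ x ∈ P, ∃ y ∈ P, x * y ≠ y * x := by
  have hfs : Fact s.Prime := ⟨hs⟩
  have key : ∀ X : Subgroup S, Nat.card X = s ^ a → ∃ A : Sylow s S, (A : Subgroup S) = X := by
    intro X hX
    obtain ⟨A, hA⟩ := (IsPGroup.of_card hX).exists_le_sylow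
    exact ⟨A, (eq_of_le_of_card_ge hA (by rw [card_sylow_of A hS hn, hX])).symm⟩
  obtain ⟨A, hA⟩ := key H hH
  obtain ⟨B, hB⟩ := key P hP
  obtain ⟨g, hg⟩ := MulAction.exists_smul_eq S A B
  have h1 : (B : Subgroup S) = (A : Subgroup S).map (MulAut.conj g).toMonoidHom := by
    rw [← hg]; rfl
  rw [hA, hB] at h1
  refine ⟨MulAut.conj g x, ?_, MulAut.conj g y, ?_, fun h5 => hxy ?_⟩
  · rw [h1]; exact ⟨x, hx, rfl⟩
  · rw [h1]; exact ⟨y, hy, rfl⟩
  · rw [← map_mul, ← map_mul] at h5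
    exact (MulAut.conj g).injective h5

/-- **NAB** -/
theorem no_of_nonab [Finite S] {s t a m : ℕ} (hs : s.Prime) (ht : t.Prime) (hst : t ≠ s) (ha : 1 ≤ a)
    (hS : Nat.card S = s ^ a * t * m) (h2 : ¬ s ∣ m) (hm : ¬ t ∣ m) (h : ∀ i, 1 ≤ i → i < a → ¬ t ∣ s ^ i - 1)
    (hna : ∀ P : Subgroup S, Nat.card P = s ^ a → ∃ x ∈ P, ∃ y ∈ P, x * y ≠ y * x)
    (hN : ∀ X : Subgroup S, Nat.card X = t → ¬ s ^ a ∣ Nat.card (normalizer (X : Set S))) (K : Subgroup S) :
    ¬ IsPiHall ({s, t} : Set ℕ) K := by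
  intro hK
  have hfs : Fact s.Prime := ⟨hs⟩
  have hft : Fact t.Prime := ⟨ht⟩
  have hcK : Nat.card K = s ^ a * t := by
    have := H171.RM.card_of_hall (a := a) (b := 1) hs ht hst (by rw [hS, pow_one]) h2 hm hK
    rwa [pow_one] at this
  have h1 : H553.OddHall.NS t K := by
    refine H555.Hall.ns_of_nonab hs ht (Ne.symm hst) ha ?_ ?_ ?_ h ?_
    · intro p hp hd
      rw [hcK] at hd
      rcases hp.dvd_mul.1 hd with h3 | h3
      · exact Or.inl ((Nat.prime_dvd_prime_iff_eq hp hs).1 (hp.dvd_of_dvd_pow h3))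
      · exact Or.inr ((Nat.prime_dvd_prime_iff_eq hp ht).1 h3)
    · rw [hcK, pow_succ]
      intro hd
      have h3 := Nat.dvd_of_mul_dvd_mul_left (pow_pos hs.pos a) hd
      exact hst ((Nat.prime_dvd_prime_iff_eq hs ht).1 h3).symm
    · rw [hcK, pow_two, mul_comm (s ^ a)]
      intro hd
      have h3 := Nat.dvd_of_mul_dvd_mul_left ht.pos hd
      exact hst ((Nat.prime_dvd_prime_iff_eq ht hs).1 (ht.dvd_of_dvd_pow h3))
    · intro P hP
      obtain ⟨x, hx, y, hy, hxy⟩ := hna (P.map K.subtype) (by rw [card_map_of_injective (subtype_injective K), hP])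
      obtain ⟨x, hx, rfl⟩ := hx
      obtain ⟨y, hy, rfl⟩ := hy
      exact ⟨x, hx, y, hy, fun h5 => hxy (by rw [← map_mul, h5, map_mul])⟩
  obtain ⟨T⟩ : Nonempty (Sylow t K) := inferInstance
  have hTn := h1.sylow_normal T
  have hcT : Nat.card (T : Subgroup K) = t := by
    have := card_sylow_of T (n := s ^ a) (b := 1) (by rw [hcK, pow_one, mul_comm]) (fun hd =>
      hst ((Nat.prime_dvd_prime_iff_eq ht hs).1 (ht.dvd_of_dvd_pow hd)))
    rwa [pow_one] at this
  have h3 : K ≤ normalizer (((T : Subgroup K).map K.subtype : Subgroup S) : Set S) := by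
    intro x hx
    apply mem_normalizer_fintype
    rintro _ ⟨z, hz, rfl⟩
    exact ⟨⟨x, hx⟩ * z * ⟨x, hx⟩⁻¹, hTn.conj_mem z hz _, by simp⟩
  refine hN ((T : Subgroup K).map K.subtype) (by rw [card_map_of_injective (subtype_injective K), hcT]) ?_
  have h4 := card_dvd_of_le h3
  rw [hcK] at h4
  exact (dvd_mul_right _ _).trans h4

end Cfsg.Agent.H555.RM
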