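import Cfsg.Agent.H555.RM.Tools
import Cfsg.Agent.H555.Hall.ThRow
import Cfsg.Agent.H171.RV.FactsA
import Cfsg.Agent.H444.ThLoc
import Cfsg.Agent.H49.ThSevenDat
import Cfsg.Agent.H227.IMThF
import Cfsg.Agent.ThType.CentSevenGL
import Cfsg.Agent.CpAutON.Gen

/-!
# The Thompson group: `{2,5}`, `{2,7}`, `{2,13}`, `{2,19}`, `{2,31}`, `{3,5}`, `{3,7}`, `{3,13}`, `{5,31}`
(helper555; S3849, piece P11)
-/

set_option autoImplicit false
set_option maxRecDepth 100000

namespace Cfsg.Agent.H555.RM.ThRow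

open Subgroup Cfsg Cfsg.Agent.H571.DExt Cfsg.Agent.H988.CPi Cfsg.Agent.H171.Odd Cfsg.Agent.H555.RV
open Cfsg.Agent.H555.Hall.ThRow (inv1_three hone)

open Cfsg.Agent.Th.IndexUpper (gTh)
open Cfsg.Agent.ThType.CentSevenGL

theorem card : Nat.card Spor.Th = 90745943887872000 := Cfsg.Agent.S1700.result.2

instance fin : Finite Spor.Th := Nat.finite_of_card_ne_zero (by rw [card]; norm_num)

instance simple : IsSimpleGroup Spor.Th := Cfsg.Agent.S1700.result.1

theorem exists_sub {r : ℕ} (hr : r.Prime) (hd : r ∣ 90745943887872000) : ∃ P : Subgroup Spor.Th, Nat.card P = r := by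
  have : Fact r.Prime := ⟨hr⟩
  obtain ⟨x, hx⟩ := exists_prime_orderOf_dvd_card' (G := Spor.Th) r (by rw [card]; exact hd)
  exact ⟨zpowers x, by rw [Nat.card_zpowers, hx]⟩

/-! ### `Inv1` -/

theorem inv_two_five : Inv1 2 5 Spor.Th := by
  refine inv1_small (a := 15) (b := 3) (c := 3) Nat.prime_two Nat.prime_five (by norm_num) (by rw [card]; norm_num)
    (by rw [card]; norm_num) (fun x hx hd => ?_) (by decide +kernel)
  have hf2 : Fact (Nat.Prime 2) := ⟨Nat.prime_two⟩
  obtain ⟨t, ht⟩ := exists_prime_orderOf_dvd_card' (G := centralizer ({x} : Set Spor.Th)) 2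
    ((by norm_num : 2 ∣ 2 ^ (3 + 1)).trans hd)
  have h1 := Cfsg.Agent.H227.IMTh.Five.card_five (s := (t : Spor.Th)) hx (by rw [Subgroup.orderOf_coe, ht])
    (mem_centralizer_singleton_iff.1 t.2).symm
  rw [h1] at hd
  revert hd
  norm_num

theorem inv_two_seven : Inv1 2 7 Spor.Th := by
  refine inv1_small (a := 15) (b := 2) (c := 3) Nat.prime_two (by norm_num) (by norm_num) (by rw [card]; norm_num)
    (by rw [card]; norm_num) (fun x hx => ?_) (by decide +kernel)
  rw [H444.ThLoc.card_seven hx]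
  norm_num

theorem inv_three_five : Inv1 3 5 Spor.Th := by
  have hctx := Cfsg.Agent.KFacts.Th.Main.ctx
  obtain ⟨f, F⟩ := Cfsg.Agent.CpAutTh.Local.exists_epi hctx
  refine inv1_three (b := 3) (by norm_num) (by norm_num) ?_ (Cfsg.Agent.H555.Hall.ThC.not_dvd_five hctx F ?_)
  · intro k h1 h2
    interval_cases k <;> norm_num
  · exact fun T hT => Cfsg.Agent.H555.Hall.ThN.nonab (MulEquiv.refl _) T hT

theorem inv_three_seven : Inv1 3 7 Spor.Th := by
  have hctx := Cfsg.Agent.KFacts.Th.Main.ctx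
  obtain ⟨f, F⟩ := Cfsg.Agent.CpAutTh.Local.exists_epi hctx
  refine inv1_three (b := 2) (by norm_num) (by norm_num) ?_ (Cfsg.Agent.H555.Hall.ThC.not_dvd_seven hctx F hone
    (fun K _ _ _ => Cfsg.Agent.S0348.result (G := K)))
  intro k h1 h2
  interval_cases k <;> norm_num

/-! ### the rows -/

theorem two_five : ¬ Dom ({2, 5} : Set ℕ) Spor.Th := by
  have hf5 : Fact (Nat.Prime 5) := ⟨Nat.prime_five⟩
  obtain ⟨P, hP⟩ := Sylow.exists_subgroup_card_pow_prime (G := Spor.Th) 5 (n := 3) (by rw [card]; norm_num)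
  obtain ⟨x, hx, y, hy, hxy⟩ := Cfsg.Agent.H555.Hall.ThN.nonab (MulEquiv.refl _) P hP
  exact no2_of_extra (p := 5) (a := 15) (m := 22154771457) Nat.prime_five (by norm_num) (by rw [card]; norm_num)
    (by norm_num) (by norm_num) inv_two_five (IsPGroup.of_card hP) hx hy hxy (ar_five (by norm_num))

theorem two_thirteen : ¬ Dom ({2, 13} : Set ℕ) Spor.Th := by
  obtain ⟨P, hP⟩ := exists_sub (r := 13) (by norm_num) (by norm_num)
  have h1 := H444.ThLoc.cn13 hP
  simp only [List.mem_cons, List.not_mem_nil, or_false, Prod.mk.injEq] at h1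
  rcases h1 with ⟨-, h1⟩ | ⟨-, h1⟩ | ⟨-, h1⟩ | ⟨-, h1⟩ | ⟨-, h1⟩ | ⟨-, h1⟩
  all_goals
    exact H171.RM.nd_norm (a := 15) (b := 2) Nat.prime_two (by norm_num) (by norm_num) card hP h1 (by decide +kernel)

theorem three_thirteen : ¬ Dom ({3, 13} : Set ℕ) Spor.Th := by
  obtain ⟨P, hP⟩ := exists_sub (r := 13) (by norm_num) (by norm_num)
  have h1 := H444.ThLoc.cn13 hP
  simp only [List.mem_cons, List.not_mem_nil, or_false, Prod.mk.injEq] at h1
  rcases h1 with ⟨-, h1⟩ | ⟨-, h1⟩ | ⟨-, h1⟩ | ⟨-, h1⟩ | ⟨-, h1⟩ | ⟨-, h1⟩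
  · exact H171.RM.nd_norm (a := 10) (b := 2) Nat.prime_three (by norm_num) (by norm_num) card hP h1 (by decide +kernel)
  · exact H171.RM.nd_norm (a := 10) (b := 2) Nat.prime_three (by norm_num) (by norm_num) card hP h1 (by decide +kernel)
  · exact H171.RM.nd_norm (a := 10) (b := 5) Nat.prime_three (by norm_num) (by norm_num) card hP h1 (by decide +kernel)
  · exact H171.RM.nd_norm (a := 10) (b := 5) Nat.prime_three (by norm_num) (by norm_num) card hP h1 (by decide +kernel)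
  · exact H171.RM.nd_norm (a := 10) (b := 8) Nat.prime_three (by norm_num) (by norm_num) card hP h1 (by decide +kernel)
  · exact H171.RM.nd_norm (a := 10) (b := 8) Nat.prime_three (by norm_num) (by norm_num) card hP h1 (by decide +kernel)

theorem two_nineteen : ¬ Dom ({2, 19} : Set ℕ) Spor.Th := by
  obtain ⟨P, hP⟩ := exists_sub (r := 19) (by norm_num) (by norm_num)
  exact H171.RM.nd_norm (a := 15) (b := 1) Nat.prime_two (by norm_num) (by norm_num) card hP (H444.ThLoc.cn19 hP).2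
    (by decide +kernel)

theorem five_thirtyone : ¬ Dom ({5, 31} : Set ℕ) Spor.Th := by
  obtain ⟨P, hP⟩ := exists_sub (r := 31) (by norm_num) (by norm_num)
  exact H171.RM.nd_norm (a := 3) (b := 1) Nat.prime_five (by norm_num) (by norm_num) card hP (H444.ThLoc.cn31 hP).2
    (by decide +kernel)

theorem zt : H171.RV.TwoP.ZT Spor.Th 92897280 :=
  H171.RV.TwoP.zt_of_large (Cfsg.Agent.KFacts.Th.Main.large Cfsg.Agent.KFacts.Th.Main.ctx)
    (dvd_of_eq (Cfsg.Agent.MonsterX.ThOneClass.card_centralizer Cfsg.Agent.MonsterX.ThOneClass.orderOf_a))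

theorem two_thirtyone : ¬ Dom ({2, 31} : Set ℕ) Spor.Th :=
  H171.RV.TwoP.no2_of_zt zt (p := 31) (a := 15) (b := 89333755875) (by norm_num) (by rw [card]; norm_num)
    (by decide +kernel) (by norm_num) (by norm_num) (by norm_num)

theorem three_five : ¬ Dom ({3, 5} : Set ℕ) Spor.Th :=
  nd_of_gl (s := 3) (t := 5) (a := 10) (b := 3) (m := 12294324224) Nat.prime_three Nat.prime_five (by norm_num)
    (by rw [card]; norm_num) (by norm_num) (by norm_num) inv_three_five (by decide +kernel)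

theorem three_seven : ¬ Dom ({3, 7} : Set ℕ) Spor.Th :=
  nd_of_gl (s := 3) (t := 7) (a := 10) (b := 2) (m := 31363072000) Nat.prime_three (by norm_num) (by norm_num)
    (by rw [card]; norm_num) (by norm_num) (by norm_num) inv_three_seven (by decide +kernel)

/-! ### `{2,7}` -/

def mB : M3 := !![0,0,1;1,0,1;0,1,0]
def mB' : M3 := !![1,1,0;0,0,1;1,0,0]

def gB : G3 := ⟨mB, mB', by decide +kernel, by decide +kernel⟩

theorem gB_order : orderOf gB = 7 := by
  have : Fact (Nat.Prime 7) := ⟨by norm_num⟩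
  refine orderOf_eq_prime ?_ ?_
  · ext1; decide +kernel
  · intro h
    have h1 : mB = 1 := congrArg Units.val h
    revert h1
    decide +kernel

theorem comm_B : ∀ A : M3, A * A = 1 → A * (mB * A * mB') = mB * A * mB' * A → A = 1 := by decide +kernel

/-- in `GL₃(2)` no nontrivial 2-subgroup is normalised by an element of order 7 -/
theorem g3_no {W : Subgroup G3} (hW : IsPGroup 2 W) (hne : W ≠ ⊥) {B : G3} (hB : orderOf B = 7)
    (hn : B ∈ normalizer (W : Set G3)) : False := by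
  have hf2 : Fact (Nat.Prime 2) := ⟨Nat.prime_two⟩
  have hf7 : Fact (Nat.Prime 7) := ⟨by norm_num⟩
  have h2 : ¬ 7 ^ 2 ∣ Nat.card G3 := by rw [card_G3]; norm_num
  obtain ⟨g, hg⟩ := CpAutON.Gen.conj_into h2 hB gB_order
  have hB' : orderOf (g * B * g⁻¹) = 7 := by
    rw [← hB]
    exact orderOf_injective (MulAut.conj g).toMonoidHom (MulAut.conj g).injective B
  have h3 : zpowers (g * B * g⁻¹) = zpowers gB := by
    refine eq_of_le_of_card_ge (zpowers_le.2 hg) ?_
    rw [Nat.card_zpowers, Nat.card_zpowers, hB', gB_order]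
  -- a central involution of `W`
  have hnt : Nontrivial W := (nontrivial_iff_ne_bot W).2 hne
  have hZ := hW.center_nontrivial
  obtain ⟨n, hn0, hcn⟩ := (hW.to_subgroup (center W)).nontrivial_iff_card.1 hZ
  obtain ⟨a, ha⟩ := exists_prime_orderOf_dvd_card' (G := center W) 2 (hcn ▸ dvd_pow_self 2 (by omega))
  set u : G3 := ((a : W) : G3) with hu
  have hu2 : orderOf u = 2 := by rw [hu, Subgroup.orderOf_coe, Subgroup.orderOf_coe, ha]
  have huW : u ∈ W := (a : W).2
  have huc : ∀ w ∈ W, w * u = u * w := fun w hw => congrArg Subtype.val (mem_center_iff.1 a.2 ⟨w, hw⟩)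
  -- its conjugate
  set A : G3 := g * u * g⁻¹ with hA
  have hA2 : A * A = 1 := by
    have h4 : u * u = 1 := by
      have h14 := pow_orderOf_eq_one u
      rw [hu2, pow_two] at h14
      exact h14
    calc A * A = g * (u * u) * g⁻¹ := by rw [hA]; group
      _ = 1 := by rw [h4]; group
  obtain ⟨k, hk⟩ : ∃ k : ℤ, (g * B * g⁻¹) ^ k = gB := mem_zpowers_iff.1 (h3 ▸ mem_zpowers gB)
  have h5 : g⁻¹ * gB * g = B ^ k := by
    rw [← hk, conj_zpow]
    group
  have h6 : B ^ k * u * (B ^ k)⁻¹ ∈ W := (mem_normalizer_iff.1 (zpow_mem hn k) u).1 huW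
  have h7 := huc _ h6
  have h8 : A * (gB * A * gB⁻¹) = gB * A * gB⁻¹ * A := by
    have h9 : gB * A * gB⁻¹ = g * (B ^ k * u * (B ^ k)⁻¹) * g⁻¹ := by
      rw [← h5, hA]
      group
    rw [h9, hA]
    calc g * u * g⁻¹ * (g * (B ^ k * u * (B ^ k)⁻¹) * g⁻¹) = g * (u * (B ^ k * u * (B ^ k)⁻¹)) * g⁻¹ := by group
      _ = g * (B ^ k * u * (B ^ k)⁻¹ * u) * g⁻¹ := by rw [h7]
      _ = _ := by group
  have h10 : (A : M3) = 1 := comm_B A (congrArg Units.val hA2) (congrArg Units.val h8)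
  have h11 : A = 1 := Units.ext h10
  have h12 : u = 1 := by
    have h13 : g * u * g⁻¹ = 1 := by rw [← hA]; exact h11
    have h14 : u = g⁻¹ * (g * u * g⁻¹) * g := by group
    rw [h14, h13]
    group
  rw [h12, orderOf_one] at hu2
  norm_num at hu2

/-- `W` a 2-subgroup of `C(x)`, `x` of order 7, normalised by a subgroup `P` of order 49 of `C(x)` -/
theorem seven_free {W P : Subgroup Spor.Th} {x : Spor.Th} (hx : orderOf x = 7) (hW : IsPGroup 2 W)
    (hWx : W ≤ centralizer ({x} : Set Spor.Th)) (hP : Nat.card P = 7 ^ 2) (hPx : P ≤ centralizer ({x} : Set Spor.Th))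
    (hPW : P ≤ normalizer (W : Set Spor.Th)) : W = ⊥ := by
  have hf7 : Fact (Nat.Prime 7) := ⟨by norm_num⟩
  by_contra hne
  obtain ⟨g, hg⟩ := H49.ThSeven.dat.one x hx
  have hS := H723.Spor.Th.setup Cfsg.Agent.KFacts.Th.Main.ctx H723.Spor.Th.hone
  have hg : g * x * g⁻¹ = gTh 6 := hg.trans H723.Spor.Th.x7
  set s := gTh 6 with hs
  have hs7 : orderOf s = 7 := hS.s7
  have h168 : Nat.card (centralizer ({s} : Set Spor.Th)) = 7 * 168 := H444.ThLoc.card_seven hs7
  obtain ⟨e, -⟩ := Cfsg.Agent.ThType.CentSevenGL.exists_equiv hS.hyp (hS.card_Y h168)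
  have hmem : ∀ {v : Spor.Th}, v ∈ centralizer ({x} : Set Spor.Th) → g * v * g⁻¹ ∈ ThType.CentSeven.Setup.H s := by
    intro v hv
    rw [mem_centralizer_singleton_iff] at hv ⊢
    rw [← hg]
    calc g * v * g⁻¹ * (g * x * g⁻¹) = g * (v * x) * g⁻¹ := by group
      _ = g * (x * v) * g⁻¹ := by rw [hv]
      _ = _ := by group
  -- an element of `P` not mapping to 1
  obtain ⟨v, hvP, hv⟩ : ∃ v ∈ P, g * v * g⁻¹ ∉ zpowers s := by
    by_contra hcon
    push Not at hcon
    have h1 : P.map (MulAut.conj g).toMonoidHom ≤ zpowers s := by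
      rintro _ ⟨v, hv, rfl⟩
      exact hcon v hv
    have h2 := card_le_of_le h1
    rw [card_map_of_injective (MulAut.conj g).injective, hP, Nat.card_zpowers, hs7] at h2
    norm_num at h2
  set V : ThType.CentSeven.Setup.H s := ⟨g * v * g⁻¹, hmem (hPx hvP)⟩ with hV
  have hV1 : ThType.CentSeven.Setup.pr s V ≠ 1 := by
    intro h1
    obtain ⟨k, hk⟩ := ThType.CentSeven.Setup.pr_eq_one.1 h1
    exact hv (mem_zpowers_iff.2 ⟨k, hk.symm⟩)
  have hV7 : orderOf (ThType.CentSeven.Setup.pr s V) = 7 := by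
    have h1 : orderOf (ThType.CentSeven.Setup.pr s V) ∣ 7 ^ 2 := by
      refine (orderOf_map_dvd _ V).trans ?_
      have h4 : orderOf (g * v * g⁻¹) = orderOf v :=
        orderOf_injective (MulAut.conj g).toMonoidHom (MulAut.conj g).injective v
      rw [hV, Subgroup.orderOf_mk, h4, ← hP]
      exact Subgroup.orderOf_dvd_natCard P hvP
    have h2 : orderOf (ThType.CentSeven.Setup.pr s V) ∣ 168 := by
      rw [← hS.card_Y h168]
      exact orderOf_dvd_natCard _
    obtain ⟨k, hk, hk'⟩ := (Nat.dvd_prime_pow (by norm_num)).1 h1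
    rw [hk'] at h2 ⊢
    interval_cases k
    · exfalso
      rw [pow_zero] at hk'
      exact hV1 (orderOf_eq_one_iff.1 hk')
    · norm_num
    · norm_num at h2
  -- the image of `W`
  let φ : W →* G3 :=
    (e.toMonoidHom.comp (ThType.CentSeven.Setup.pr s)).comp
      (((MulAut.conj g).toMonoidHom.comp W.subtype).codRestrict (ThType.CentSeven.Setup.H s) fun w => hmem (hWx w.2))
  have hφ : ∀ (w : Spor.Th) (hw : w ∈ W), φ ⟨w, hw⟩ =
      e (ThType.CentSeven.Setup.pr s ⟨g * w * g⁻¹, hmem (hWx hw)⟩) := fun _ _ => rfl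
  have hran : IsPGroup 2 φ.range := by
    have := hW.map (MonoidHom.id _)
    rintro ⟨_, w, rfl⟩
    obtain ⟨k, hk⟩ := hW w
    exact ⟨k, Subtype.ext (by
      show (φ w) ^ 2 ^ k = 1
      rw [← map_pow, hk, map_one])⟩
  refine g3_no (W := φ.range) hran ?_ (B := e (ThType.CentSeven.Setup.pr s V)) (by rw [MulEquiv.orderOf_eq, hV7]) ?_
  · intro h0
    apply hne
    rw [eq_bot_iff]
    intro w hw
    have h1 : φ ⟨w, hw⟩ = 1 := by
      have h2 : φ ⟨w, hw⟩ ∈ φ.range := ⟨_, rfl⟩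
      rw [h0] at h2
      exact h2
    rw [hφ, map_eq_one_iff e e.injective] at h1
    obtain ⟨k, hk⟩ := ThType.CentSeven.Setup.pr_eq_one.1 h1
    have hk : g * w * g⁻¹ = s ^ k := hk
    obtain ⟨l, hl⟩ := hW ⟨w, hw⟩
    have hl : w ^ 2 ^ l = 1 := congrArg Subtype.val hl
    have h3 : orderOf (g * w * g⁻¹) ∣ 7 := by
      rw [hk, ← hs7]
      exact orderOf_dvd_of_mem_zpowers (mem_zpowers_iff.2 ⟨k, rfl⟩)
    have h4 : orderOf (g * w * g⁻¹) = orderOf w :=
      orderOf_injective (MulAut.conj g).toMonoidHom (MulAut.conj g).injective w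
    rw [h4] at h3
    have h5 : orderOf w ∣ 1 := by
      have h8 : Nat.Coprime (2 ^ l) 7 := Nat.Coprime.pow_left _ (by norm_num)
      have h9 := Nat.dvd_gcd (orderOf_dvd_of_pow_eq_one hl) h3
      rwa [h8] at h9
    rw [Nat.dvd_one, orderOf_eq_one_iff] at h5
    rw [mem_bot]
    exact h5
  · have hfin : Finite G3 := Nat.finite_of_card_ne_zero (by rw [card_G3]; norm_num)
    apply mem_normalizer_fintype
    rintro _ ⟨⟨w, hw⟩, rfl⟩
    have hvw : v * w * v⁻¹ ∈ W := (mem_normalizer_iff.1 (hPW hvP) w).1 hw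
    refine ⟨⟨v * w * v⁻¹, hvw⟩, ?_⟩
    rw [hφ, hφ, ← map_inv e, ← map_inv, ← map_mul, ← map_mul, ← map_mul, ← map_mul]
    congr 2
    apply Subtype.ext
    show g * (v * w * v⁻¹) * g⁻¹ = g * v * g⁻¹ * (g * w * g⁻¹) * (g * v * g⁻¹)⁻¹
    group

theorem two_seven : ¬ Dom ({2, 7} : Set ℕ) Spor.Th := by
  rintro ⟨K, hK, -⟩
  have hf7 : Fact (Nat.Prime 7) := ⟨by norm_num⟩
  obtain ⟨hcK, Q, hQK, hQ, hKn, hKc⟩ := exists_Q (s := 2) (t := 7) (a := 15) (b := 2) (m := 56517274125)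
    Nat.prime_two (by norm_num) (by norm_num) (by rw [card]; norm_num) (by norm_num) (by norm_num) inv_two_seven hK
  obtain ⟨P, hPK, hP⟩ := exists_P (s := 2) (t := 7) (a := 15) (b := 2) Nat.prime_two (by norm_num) (by norm_num) hcK
  obtain ⟨j, hj, hcQ⟩ := exists_Q_card (s := 2) (t := 7) (a := 15) (b := 2) Nat.prime_two (by norm_num) (by norm_num)
    hcK hQK hQ
  have hcom : ∀ x ∈ P, ∀ y ∈ P, x * y = y * x := by
    intro x hx y hy
    exact congrArg Subtype.val (IsPGroup.commutative_of_card_eq_prime_sq hP ⟨x, hx⟩ ⟨y, hy⟩)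
  -- the elements of order 7
  have key : ∀ x ∈ P, orderOf x = 7 → (Q ⊓ centralizer ({x} : Set Spor.Th) : Subgroup Spor.Th) = ⊥ := by
    intro x hx hx7
    refine seven_free hx7 (hQ.to_le inf_le_left) inf_le_right hP (fun y hy => ?_) fun y hy => ?_
    · rw [mem_centralizer_singleton_iff]
      exact hcom y hy x hx
    · apply mem_normalizer_fintype
      rintro w ⟨hw, hwc⟩
      refine ⟨(mem_normalizer_iff.1 (hKn (hPK hy)) w).1 hw, ?_⟩
      show y * w * y⁻¹ ∈ centralizer {x}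
      rw [mem_centralizer_singleton_iff]
      have h5 : Commute w x := mem_centralizer_singleton_iff.1 hwc
      have h6 : Commute y x := hcom y hy x hx
      exact ((h6.mul_left h5).mul_left h6.inv_left).eq
  -- all the elements
  have key2 : ∀ y ∈ Q, y ≠ 1 → (centralizer ({y} : Set Spor.Th) ⊓ P : Subgroup Spor.Th) = ⊥ := by
    intro y hy hy1
    by_contra hne
    have hp1 : IsPGroup 7 (centralizer ({y} : Set Spor.Th) ⊓ P : Subgroup Spor.Th) :=
      (IsPGroup.of_card hP).to_le inf_le_right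
    have hnt : Nontrivial (centralizer ({y} : Set Spor.Th) ⊓ P : Subgroup Spor.Th) := (nontrivial_iff_ne_bot _).2 hne
    obtain ⟨n, hn0, hcn⟩ := hp1.nontrivial_iff_card.1 hnt
    obtain ⟨x, hx⟩ := exists_prime_orderOf_dvd_card' (G := (centralizer ({y} : Set Spor.Th) ⊓ P : Subgroup Spor.Th)) 7
      (hcn ▸ dvd_pow_self 7 (by omega))
    have h1 := key (x : Spor.Th) x.2.2 (by rw [Subgroup.orderOf_coe, hx])
    apply hy1
    have h2 : y ∈ (Q ⊓ centralizer ({(x : Spor.Th)} : Set Spor.Th) : Subgroup Spor.Th) :=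
      ⟨hy, mem_centralizer_singleton_iff.2 (mem_centralizer_singleton_iff.1 x.2.1).symm⟩
    rw [h1] at h2
    exact h2
  have h2 : 7 ^ 2 ∣ Nat.card Q - Nat.card (⊥ : Subgroup Spor.Th) := by
    refine dvd_sub (P := P) (hPK.trans hKn) (fun x _ => by
      apply mem_normalizer_fintype
      intro y hy
      have hy : y = 1 := hy
      subst hy
      show x * 1 * x⁻¹ = 1
      simp) bot_le fun y hy hy1 => ?_
    have h3 := card_inf_mul (centralizer ({y} : Set Spor.Th)) P
    rw [key2 y hy hy1, card_bot, one_mul, hP] at h3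
    rw [h3]
  rw [hcQ, card_bot] at h2
  have hj0 : j = 0 := by
    by_contra hj0
    exact ar_seven (a := 15) (by norm_num) j (by omega) hj h2
  rw [hj0, pow_zero] at hcQ
  have hQ1 : Q = ⊥ := card_eq_one.1 hcQ
  have hPb : P = ⊥ := by
    rw [eq_bot_iff]
    intro x hx
    rw [← hQ1]
    refine hKc ⟨hPK hx, mem_centralizer_iff.2 fun y hy => ?_⟩
    rw [hQ1] at hy
    have hy : y = 1 := hy
    rw [hy, one_mul, mul_one]
  rw [hPb, card_bot] at hP
  norm_num at hP

end Cfsg.Agent.H555.RM.ThRow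

namespace Cfsg.Agent.H555.RM

open Cfsg Cfsg.Agent.H571.DExt
open Cfsg.Agent.H555.RV (dom_equiv)

universe u

variable {S : Type u} [Group S] [Finite S] [IsSimpleGroup S]

theorem no2_th_5 (h : Spor.IsoTh S) : ¬ Dom ({2, 5} : Set ℕ) S := by
  obtain ⟨e⟩ := h
  exact fun hD => ThRow.two_five (dom_equiv e hD)

theorem no2_th_7 (h : Spor.IsoTh S) : ¬ Dom ({2, 7} : Set ℕ) S := by
  obtain ⟨e⟩ := h
  exact fun hD => ThRow.two_seven (dom_equiv e hD)

theorem no2_th_13 (h : Spor.IsoTh S) : ¬ Dom ({2, 13} : Set ℕ) S := by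
  obtain ⟨e⟩ := h
  exact fun hD => ThRow.two_thirteen (dom_equiv e hD)

theorem no2_th_19 (h : Spor.IsoTh S) : ¬ Dom ({2, 19} : Set ℕ) S := by
  obtain ⟨e⟩ := h
  exact fun hD => ThRow.two_nineteen (dom_equiv e hD)

theorem no2_th_31 (h : Spor.IsoTh S) : ¬ Dom ({2, 31} : Set ℕ) S := by
  obtain ⟨e⟩ := h
  exact fun hD => ThRow.two_thirtyone (dom_equiv e hD)

theorem no_th_3_5 (h : Spor.IsoTh S) : ¬ Dom ({3, 5} : Set ℕ) S := by
  obtain ⟨e⟩ := h
  exact fun hD => ThRow.three_five (dom_equiv e hD)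

theorem no_th_3_7 (h : Spor.IsoTh S) : ¬ Dom ({3, 7} : Set ℕ) S := by
  obtain ⟨e⟩ := h
  exact fun hD => ThRow.three_seven (dom_equiv e hD)

theorem no_th_3_13 (h : Spor.IsoTh S) : ¬ Dom ({3, 13} : Set ℕ) S := by
  obtain ⟨e⟩ := h
  exact fun hD => ThRow.three_thirteen (dom_equiv e hD)

theorem no_th_5_31 (h : Spor.IsoTh S) : ¬ Dom ({5, 31} : Set ℕ) S := by
  obtain ⟨e⟩ := h
  exact fun hD => ThRow.five_thirtyone (dom_equiv e hD)

end Cfsg.Agent.H555.RM
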