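import Cfsg.Agent.H555.RM.Tools
import Cfsg.Agent.H315.RatB.ON
import Cfsg.Agent.H47.MeetON
import Cfsg.Agent.H999.ONFiveCent
import Cfsg.Agent.H474.ONC.End

/-!
# The O'Nan group: `{3,5}`, `{3,7}`, `{7,19}` (helper555; S3849, piece P11)
-/

set_option autoImplicit false
set_option maxRecDepth 100000

namespace Cfsg.Agent.H555.RM.ONRow

open Subgroup Cfsg Cfsg.Agent.H571.DExt Cfsg.Agent.H988.CPi Cfsg.Agent.H171.Odd Cfsg.Agent.H444.Fpr

theorem card : Nat.card Spor.ON = 460815505920 := NotCT.Orders.on ⟨MulEquiv.refl _⟩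

instance fin : Finite Spor.ON := Nat.finite_of_card_ne_zero (by rw [card]; norm_num)

instance simple : IsSimpleGroup Spor.ON := Cfsg.Agent.H573.Spor.ONSeven.simple_ON

theorem exists_order {r : ℕ} (hr : r.Prime) (hd : r ∣ 460815505920) : ∃ z : Spor.ON, orderOf z = r := by
  have : Fact r.Prime := ⟨hr⟩
  exact exists_prime_orderOf_dvd_card' r (by rw [card]; exact hd)

theorem known5 : Known Spor.ON 5 36 4 := by
  obtain ⟨z, hz⟩ := exists_order (r := 5) (by norm_num) (by norm_num)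
  exact Known.of_cent (by norm_num) card (by decide +kernel) (by decide +kernel) hz
    (by rw [Cfsg.Agent.H474.ONC.card_cent_five hz]) (by decide +kernel)

theorem known19 : Known Spor.ON 19 1 6 := by
  obtain ⟨z, hz⟩ := exists_order (r := 19) (by norm_num) (by norm_num)
  exact Known.of_cent (by norm_num) card (by decide +kernel) (by decide +kernel) hz
    (by rw [H680.ONThirtyOne.card_cent_nineteen hz]) (by decide +kernel)

theorem nonab (P : Subgroup Spor.ON) (hP : Nat.card P = 7 ^ 3) : ∃ x ∈ P, ∃ y ∈ P, x * y ≠ y * x := by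
  have h := Cfsg.Agent.H47.MeetS.ONan.ext
  refine nonab_of (s := 7) (a := 3) (n := 1343485440) (by norm_num) (by rw [card]; norm_num) (by norm_num) (H := h.H)
    h.card_H (x := Cfsg.Agent.KFacts.MulSpor.ON.w Cfsg.Agent.H51.ONSeven.wx)
    (y := Cfsg.Agent.KFacts.MulSpor.ON.w Cfsg.Agent.H51.ONSeven.wy) ⟨1, 0, 0, ?_⟩ ⟨0, 1, 0, ?_⟩ ?_ P hP
  · simp [Cfsg.Agent.H47.MeetExt.Ext.E]
  · simp [Cfsg.Agent.H47.MeetExt.Ext.E]
  · intro h1
    apply h.c1
    rw [← h.xy, h1]
    group

/-- no 7-subgroup is normalised by a Sylow 3-subgroup -/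
theorem inv : Inv1 3 7 Spor.ON := by
  have hf3 : Fact (Nat.Prime 3) := ⟨Nat.prime_three⟩
  have hf7 : Fact (Nat.Prime 7) := ⟨by norm_num⟩
  intro T hT hTi R hR hn
  by_contra hne
  have hTa : 3 ^ 4 ∣ Nat.card T := by
    have h1 := T.card_mul_index
    have h2 : 3 ^ 4 ∣ Nat.card T * T.index := by rw [h1, card]; norm_num
    exact (Nat.Coprime.pow_left 4 ((Nat.Prime.coprime_iff_not_dvd Nat.prime_three).2 hTi)).dvd_of_dvd_mul_right h2
  have key : ∀ (X : Subgroup Spor.ON) (r : ℕ), Nat.card X = 7 ^ r → r ≠ 0 → T ≤ normalizer (X : Set Spor.ON) → 3 ≤ r := by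
    intro X r hr hr0 hX
    have h1 := inv1_bound (a := 4) (c := 0) Nat.prime_three (by norm_num : Nat.Prime 7) (by norm_num)
      (fun x hx => by rw [zero_add, pow_one]; exact Cfsg.Agent.H315.RatB.ON.not_three_seven hx) hT hTa hr hr0 hX
    by_contra hlt
    have h2 : r = 1 ∨ r = 2 := by omega
    rcases h2 with rfl | rfl
    · revert h1; decide +kernel
    · revert h1; decide +kernel
  obtain ⟨r, hr⟩ := hR.exists_card_eq
  have hr0 : r ≠ 0 := by
    rintro rfl
    rw [pow_zero] at hr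
    exact hne (card_eq_one.1 hr)
  have h3 := key R r hr hr0 hn
  have hr3 : r = 3 := by
    have h1 := card_subgroup_dvd_card R
    rw [hr, card] at h1
    by_contra h4
    have h5 : 7 ^ 4 ∣ 460815505920 := (pow_dvd_pow 7 (by omega)).trans h1
    revert h5; decide +kernel
  subst hr3
  -- the centre
  obtain ⟨x, hx, y, hy, hxy⟩ := nonab R hr
  have hnt : Nontrivial R := (nontrivial_iff_ne_bot R).2 hne
  have hZ := hR.center_nontrivial
  set Z : Subgroup Spor.ON := (center R).map R.subtype with hZdef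
  have hZR : Z ≤ R := map_subtype_le _
  obtain ⟨k, hk⟩ := (hR.to_le hZR).exists_card_eq
  have hcZ : Nat.card Z = Nat.card (center R) := by rw [hZdef, card_map_of_injective (subtype_injective R)]
  have hk0 : k ≠ 0 := by
    rintro rfl
    rw [pow_zero, hcZ] at hk
    have := Finite.one_lt_card (α := center R)
    omega
  have hTZ : T ≤ normalizer (Z : Set Spor.ON) := by
    intro g hg
    apply mem_normalizer_fintype
    rintro _ ⟨z, hz, rfl⟩
    have hgR := mem_normalizer_iff.1 (hn hg)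
    refine ⟨⟨g * z * g⁻¹, (hgR z).1 z.2⟩, ?_, rfl⟩
    rw [SetLike.mem_coe, mem_center_iff]
    intro u
    apply Subtype.ext
    show (u : Spor.ON) * (g * z * g⁻¹) = g * z * g⁻¹ * u
    have h6 : g⁻¹ * u * g ∈ R := by
      have h7 := (mem_normalizer_iff.1 (inv_mem (hn hg)) (u : Spor.ON)).1 u.2
      rwa [inv_inv] at h7
    have h8 := congrArg Subtype.val (mem_center_iff.1 hz ⟨_, h6⟩)
    have h8 : g⁻¹ * u * g * z = z * (g⁻¹ * u * g) := h8
    calc (u : Spor.ON) * (g * z * g⁻¹) = g * (g⁻¹ * u * g * z) * g⁻¹ := by group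
      _ = g * (z * (g⁻¹ * u * g)) * g⁻¹ := by rw [h8]
      _ = _ := by group
  have h9 := key Z k hk hk0 hTZ
  have h10 : Z = R := by
    refine eq_of_le_of_card_ge hZR ?_
    rw [hk, hr]
    exact Nat.pow_le_pow_right (by norm_num) h9
  apply hxy
  have h11 : x ∈ Z := by rw [h10]; exact hx
  obtain ⟨z, hz, hzx⟩ := h11
  have h12 := congrArg Subtype.val (mem_center_iff.1 hz ⟨y, hy⟩)
  have h13 : (z : Spor.ON) = x := hzx
  have h12 : y * (z : Spor.ON) = z * y := h12
  rw [h13] at h12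
  exact h12.symm

end Cfsg.Agent.H555.RM.ONRow

namespace Cfsg.Agent.H555.RM

open Subgroup Cfsg Cfsg.Agent.H571.DExt Cfsg.Agent.H988.CPi Cfsg.Agent.H171.Odd Cfsg.Agent.H444.Fpr
open Cfsg.Agent.H555.RV (dom_equiv)

universe u

theorem no_on_3_5 {S : Type u} [Group S] [Finite S] [IsSimpleGroup S] (h : Spor.IsoON S) :
    ¬ Dom ({3, 5} : Set ℕ) S := by
  obtain ⟨e⟩ := h
  exact fun hD => H171.RM.nd_known (a := 4) (b := 2) Nat.prime_three (by norm_num) ONRow.card ONRow.known5
    (by decide +kernel) (dom_equiv e hD)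

theorem no_on_3_7 {S : Type u} [Group S] [Finite S] [IsSimpleGroup S] (h : Spor.IsoON S) :
    ¬ Dom ({3, 7} : Set ℕ) S := by
  obtain ⟨e⟩ := h
  exact fun hD => nd_of_gl (s := 3) (t := 7) (a := 4) (b := 3) (m := 16586240) Nat.prime_three (by norm_num) (by norm_num)
    (by rw [ONRow.card]; norm_num) (by norm_num) (by norm_num) ONRow.inv (by decide +kernel) (dom_equiv e hD)

theorem no_on_7_19 {S : Type u} [Group S] [Finite S] [IsSimpleGroup S] (h : Spor.IsoON S) :
    ¬ Dom ({7, 19} : Set ℕ) S := by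
  obtain ⟨e⟩ := h
  intro hD
  obtain ⟨K, hK, -⟩ := dom_equiv e hD
  refine no_of_nonab (s := 7) (t := 19) (a := 3) (m := 70709760) (by norm_num) (by norm_num) (by norm_num)
    (by norm_num) (by rw [ONRow.card]; norm_num) (by norm_num) (by norm_num) ?_ ONRow.nonab ?_ K hK
  · intro i h1 h2
    interval_cases i <;> norm_num
  · intro X hX
    obtain ⟨x, hx⟩ : ∃ x : Spor.ON, X = zpowers x := by
      have hft : Fact (Nat.Prime 19) := ⟨by norm_num⟩
      have h1 : IsCyclic X := isCyclic_of_prime_card hX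
      obtain ⟨x, hx⟩ := h1.exists_generator
      refine ⟨x, le_antisymm (fun y hy => ?_) (zpowers_le.2 x.2)⟩
      obtain ⟨k, hk⟩ := hx ⟨y, hy⟩
      exact ⟨k, congrArg Subtype.val hk⟩
    subst hx
    rw [ONRow.known19.norm x (by rw [← Nat.card_zpowers, hX])]
    norm_num

end Cfsg.Agent.H555.RM
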