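import Cfsg.Agent.H555.RM.Tools
import Cfsg.Agent.H933.TitsSep

/-!
# The Tits group: `{3,5}`, `{3,13}` (helper555; S3849, piece P11)
-/

set_option autoImplicit false

namespace Cfsg.Agent.H555.RM

open Subgroup Cfsg Cfsg.Agent.H571.DExt

universe u

theorem no_tits_3_5 {S : Type u} [Group S] [Finite S] [IsSimpleGroup S] (h : Lie.IsoTits S) :
    ¬ Dom ({3, 5} : Set ℕ) S := by
  have h5 : Fact (Nat.Prime 5) := ⟨Nat.prime_five⟩
  obtain ⟨P⟩ : Nonempty (Sylow 5 S) := inferInstance
  have F := H235.TitsRow.facts h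
  exact H171.RM.nd_chk (N := 17971200) (M := 1200) (s := 3) (t := 5) (a := 3) (b := 1) (c := 2) Nat.prime_three
    Nat.prime_five (by norm_num) (NotCT.Orders.tits h)
    (H555.RV.card_sylow_of P (n := 718848) (by rw [NotCT.Orders.tits h]; norm_num) (by norm_num))
    (H933.TitsSep.card_five F P) (by decide +kernel)

theorem no_tits_3_13 {S : Type u} [Group S] [Finite S] [IsSimpleGroup S] (h : Lie.IsoTits S) :
    ¬ Dom ({3, 13} : Set ℕ) S := by
  have h13 : Fact (Nat.Prime 13) := ⟨by norm_num⟩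
  obtain ⟨P, hP⟩ := H933.TitsSep.exists_thirteen (H235.TitsRow.facts h)
  exact H171.RM.nd_chk (N := 17971200) (M := 78) (s := 3) (t := 13) (a := 3) (b := 1) (c := 1) Nat.prime_three
    (by norm_num) (by norm_num) (NotCT.Orders.tits h)
    (H555.RV.card_sylow_of P (n := 1382400) (by rw [NotCT.Orders.tits h]; norm_num) (by norm_num))
    hP (by decide +kernel)

end Cfsg.Agent.H555.RM
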